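import Cfsg.Agent.Lib.ToddCox.M11T.Main
import Cfsg.Agent.Lib.ToddCox.Final
set_option autoImplicit false
set_option maxRecDepth 100000
namespace Cfsg.Agent.Lib.ToddCox.M11O
def O_0 : ℕ := 0x1c000000e00003f014010000f00003e018040000940003d0100400002c0003c018040000a80003b018040000600003a018030000d0000390180400009800038014000000f0000370140400008c00036014010000cc00035014000000cc0003401004000020000330140400005800032014020000bc00031014010000a4000300100000009c0002f014020000a40002e0140400005c0002d0180400006c0002c014040000440002b0140100008c0002a0100300009c00029010040000340002800c04000010000270140300008000026014020000800002501401000080000240100300007c000230100200007c000220100100007c000210100000007c0002000c040000080001f014000000540001e014030000500001d0140300004c0001c014010000480001b014020000440001a014010000440001901403000040000180100000003800017010030000300001601004000028000150100100002c00014010000000240001301000000020000120100300001c000110100000001c00010010030000180000f00c0400000c0000e00c020000140000d00c010000140000c00c000000140000b00c0300000c0000a00c0200000c0000900c030000080000800c020000080000700c0100000800006008030000040000500802000004000040080100000400003008000000040000200404000000000010000000000000000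
def O_1 : ℕ := 0x40a000000000150080a0000040001200409000000000060000000000000003010050000500001e0100800004c0001d010080000480001c010060000440001b010070000400001a01006000040000190100800003c00018010050000340001700c0800002c0001600c070000280001500c060000280001400c050000200001300c0500001c0001200c080000180001100c050000180001000c080000140000f00c070000140000e008070000100000d008060000100000c008050000100000b008080000080000a00807000008000090080800000400008008070000040000700806000004000060040800000000005004070000000000400406000000000030040500000000002000000000000000101c000000e4000410180400007800040
def oT_0_2 (j : ℕ) : ℕ := bif Nat.blt j 1 then O_0 else O_1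
def oT (j : ℕ) : ℕ := (oT_0_2 j)
noncomputable def oC (h : ℕ) : ℕ := Nat.rec (motive := fun _ => ℕ) (oT 0) (fun n _ => oT (Nat.succ n)) h
noncomputable def orbR (j : ℕ) : ℕ := Nat.land (Nat.shiftRight (oC (Nat.shiftRight j 6)) (Nat.mul (Nat.land j 63) 64)) 18446744073709551615
def L : List (List ℕ) := [[nat_lit 0],
  [nat_lit 1],
  [nat_lit 2],
  [nat_lit 3],
  [nat_lit 4],
  [nat_lit 0],
  [nat_lit 1],
  [nat_lit 2],
  [nat_lit 3],
  [nat_lit 1, nat_lit 0, nat_lit 1],
  [nat_lit 2, nat_lit 3, nat_lit 2]]
end Cfsg.Agent.Lib.ToddCox.M11O
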